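import Cfsg.Agent.H932.BR.RowTd4
import Cfsg.Agent.H116.CY.StA
import Cfsg.Agent.H726.CY.StA
import Cfsg.Agent.H776.CY.Congr

/-!
# S4829, the row `³D₄(q)` in cross characteristic (helper932)
-/

set_option autoImplicit false
set_option linter.unusedSectionVars false

namespace Cfsg.Agent.H932.CY.Td4

open CoxeterSystem Cfsg Cfsg.Lie Cfsg.Lie.ChevalleyDatum
open Cfsg.Agent.ChevalleyStructure Cfsg.Agent.ChevalleyStructure.Elts Cfsg.Agent.ChevalleyStructure.CoxeterGeom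
  Cfsg.Agent.ChevalleyStructure.CoxeterGeomTypes Cfsg.Agent.ChevalleyStructure.NPerm
open Cfsg.Agent.Tits.Roots Cfsg.Agent.Tits.Core Cfsg.Agent.Nodes Cfsg.Agent.Nodes.Reps Cfsg.Agent.Nodes.BNOf
  Cfsg.Agent.Nodes.RGDChev Cfsg.Agent.Nodes.OppDec Cfsg.Agent.H554.RG Cfsg.Agent.Nodes.Bruhat Cfsg.Agent.Nodes.NormalForm Cfsg.Agent.Nodes.StabComb Cfsg.Agent.Nodes.LeviDec
open Cfsg.Agent.Nodes.RGDTwD4 (hp isCartan T X)
open Cfsg.Agent.H932.BR.Td4
open Cfsg.Agent.H770.CY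

universe u

/-- **`³D₄(q)`, all odd primes not dividing `q`** -/
theorem rowA {K : Type u} [Field K] [Fintype K] {q : ℕ} [Fintype ↥(twistedD4 K q)] (hq : IsPrimePow q)
    (hK : Fintype.card K = q ^ 3) {p : ℕ}
    [hpp : Fact p.Prime] (hp2 : p ≠ 2) (hpK : (p : K) ≠ 0) (hd : p ∣ Nat.card ↥(twistedD4 K q)) :
    RowA p ↥(twistedD4 K q) := by
  obtain ⟨φ, hφ⟩ := D4Fixed.exists_frob hq hK
  have : Finite (GL chevD4.Idx K) := inferInstance
  obtain ⟨r, hcr⟩ := CharP.exists K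
  have hr' : Fact r.Prime := ⟨CharP.char_is_prime K r⟩
  have h2 : 2 ≤ q := hq.two_le
  have hpr : p ≠ r := by
    rintro rfl
    exact hpK (CharP.cast_eq_zero K p)
  obtain ⟨r', f, hr1, hf, hrf⟩ := hq
  have hrr : r = r' := by
    obtain ⟨n, hpp, hn⟩ := FiniteField.card K r
    have h3 : r ∣ r' := by
      have h4 : r ∣ Fintype.card K := by rw [hn]; exact dvd_pow_self r n.pos.ne'
      rw [hK, ← hrf, ← pow_mul] at h4
      exact hpp.dvd_of_dvd_pow h4
    exact (Nat.prime_dvd_prime_iff_eq hpp hr1.nat_prime).1 h3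
  subst hrr
  have hq' : IsPrimePow q := ⟨r, f, hr1, hf, hrf⟩
  have hfin : Finite CoxeterMatrix.G₂.Group := Nodes.RGDFold.finite_W (hp := hp)
    CoxeterMatrix.G₂.toCoxeterSystem isCartan Nodes.RGDTwD4.foldData
  have hR := Nodes.RGDTwD4.rgd CoxeterMatrix.G₂.toCoxeterSystem hK hφ r
  have hG1 : Nodes.RGDLib.G1 CoxeterMatrix.G₂.toCoxeterSystem isCartan (X φ q) = ⊤ :=
    Nodes.RGDTwD4.G1_eq_top _ hK hφ
  have hGG : GG CoxeterMatrix.G₂.toCoxeterSystem isCartan (T K q) (X φ q) = ⊤ := by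
    rw [eq_top_iff, ← hG1]
    exact le_sup_right
  have hc := H934.RowTwD4.card_X hφ (by omega) hK
  have hpq : ¬ p ∣ q := by
    intro h3
    rw [← hrf] at h3
    exact hpr ((Nat.prime_dvd_prime_iff_eq hpp.out hr'.out).1 (hpp.out.dvd_of_dvd_pow h3))
  have hS0 : Nat.card ↥(twistedD4 K q) = q ^ 12 * ((q ^ 2 - 1) * (q ^ 6 - 1) * (q ^ 8 + q ^ 4 + 1)) := by
    rw [Cfsg.Agent.S1067.result hq' hK]
    ring
  rw [hS0] at hd
  rcases cases_p hpp.out h2 hpq hd with ⟨h3, h4⟩ | h3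
  · -- `p ∣ q - 1`
    have hp3 : p ≠ 3 := by
      rintro rfl
      apply h4
      obtain ⟨y, hy⟩ := h3
      obtain rfl : q = 3 * y + 1 := by omega
      have e : (3 * y + 1) ^ 8 + (3 * y + 1) ^ 4 + 1 = 3 * (2187 * y ^ 8 + 5832 * y ^ 7 + 6804 * y ^ 6 + 4536 * y ^ 5 +
          1917 * y ^ 4 + 540 * y ^ 3 + 102 * y ^ 2 + 12 * y + 1) := by ring
      rw [e]
      exact Dvd.intro _ rfl
    have h5 : 5 ≤ p := by
      have := hpp.out.two_le
      have h4' : p ≠ 4 := by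
        rintro rfl
        exact absurd hpp.out (by norm_num)
      omega
    have hcard : Nat.card Kˣ = q ^ 3 - 1 := by
      rw [Nat.card_units, Nat.card_eq_fintype_card, hK]
    have hdvd : p ∣ Nat.card Kˣ := by
      rw [hcard]
      exact h3.trans (by simpa using Nat.sub_dvd_pow_sub_pow q 1 3)
    obtain ⟨z, hz⟩ := exists_prime_orderOf_dvd_card' (G := Kˣ) p hdvd
    have hzq : (z : K) ^ q = z := by
      have h6 : z ^ (q - 1) = 1 := orderOf_dvd_iff_pow_eq_one.1 (hz ▸ h3)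
      have h7 : z ^ q = z := by
        obtain ⟨y, hy⟩ : ∃ y, q = y + 1 := ⟨q - 1, by omega⟩
        rw [hy, Nat.add_sub_cancel] at h6
        rw [hy, pow_succ, h6, one_mul]
      rw [← Units.val_pow_eq_pow_val, h7]
    have hcent := cent_QQ hφ h5 hz hzq
    refine H726.CY.rowA_st_torus hR hGG ?_ (by decide) (QQ_isPGroup (K := K) (q := q) (p := p)) QQ_le ?_ hcent
    · intro D hD hD'
      obtain ⟨i, hi⟩ := hD
      obtain ⟨j, hj⟩ := hD'
      refine ⟨i, hi, j, hj, ?_⟩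
      have hij : i ≠ j := fun e => hj (e ▸ hi)
      fin_cases i <;> fin_cases j <;> first | exact absurd rfl hij | (show (6 : ℕ) ≠ 2; norm_num)
    · intro v k hk x hx
      exact ⟨(Subgroup.mem_normalizer_iff.1 hk.mem_normalizer x).1 hx.1, by
        rw [conj_pow, hx.2, mul_one, mul_inv_cancel]⟩
  · -- the other primes
    have hT : 1 * Nat.card ↥(T K q) = (q - 1) ^ 2 * (q ^ 2 + q + 1) := by
      rw [one_mul, ← Cfsg.Agent.S1106.result hq' hK]
      exact Nat.card_congr (Subgroup.subgroupOfEquivOfLe inf_le_right).toEquiv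
    have hS : 1 * Nat.card ↥(twistedD4 K q) = r ^ (f * 12) * ((q ^ 2 - 1) * (q ^ 6 - 1) * (q ^ 8 + q ^ 4 + 1)) := by
      rw [one_mul, hS0, pow_mul, hrf]
    have hrq : r ∣ q := by rw [← hrf]; exact dvd_pow_self r hf.ne'
    have hsub : ∀ k, k ≠ 0 → ¬ r ∣ q ^ k - 1 := by
      intro k hk h3
      have h4 : r ∣ q ^ k := dvd_pow hrq hk
      have h5 : 1 ≤ q ^ k := Nat.one_le_pow _ _ (by omega)
      have h6 := Nat.dvd_sub h4 h3
      rw [Nat.sub_sub_self h5] at h6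
      exact hr'.out.one_lt.ne' (Nat.dvd_one.1 h6)
    have hP : ¬ r ∣ (q ^ 2 - 1) * (q ^ 6 - 1) * (q ^ 8 + q ^ 4 + 1) := by
      rw [hr'.out.dvd_mul, hr'.out.dvd_mul]
      rintro ((h3 | h3) | h3)
      · exact hsub 2 (by norm_num) h3
      · exact hsub 6 (by norm_num) h3
      · have h4 : r ∣ q ^ 8 + q ^ 4 := dvd_add (dvd_pow hrq (by norm_num)) (dvd_pow hrq (by norm_num))
        exact hr'.out.one_lt.ne' (Nat.dvd_one.1 ((Nat.dvd_add_right h4).1 h3))
    have hN1 := H35.ExcIdx.card_step hR H934.RowTwD4.path1 (y := q ^ 3) (fun i hi => by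
      rw [List.mem_singleton] at hi
      rw [hc, hi]
      rfl) (H35.ExcIdx.card_nil hR)
    have hN0 := H35.ExcIdx.card_step hR path0 (y := q) (fun i hi => by
      rw [List.mem_singleton] at hi
      rw [hc, hi]
      rfl) (H35.ExcIdx.card_nil hR)
    have h6 := H35.ExcIdx.index_eq hR hGG hN1 (d := 1) (fun h => hr'.out.one_lt.ne' (Nat.dvd_one.1 h)) hT hS hP
    have h7 := H35.ExcIdx.index_eq hR hGG hN0 (d := 1) (fun h => hr'.out.one_lt.ne' (Nat.dvd_one.1 h)) hT hS hP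
    have hFA : H35.ExcIdx.FA [(1 : Fin 2)].length (q ^ 3) * 1 = 1 + q ^ 3 := by
      simp [H35.ExcIdx.FA, Finset.sum_range_succ]
    have hFA0 : H35.ExcIdx.FA [(0 : Fin 2)].length q * 1 = 1 + q := by simp [H35.ExcIdx.FA, Finset.sum_range_succ]
    rw [hFA] at h6
    rw [hFA0] at h7
    have e1 := arith1 h2 h6
    have e2 := arith2 h2 h7
    have hJ1 : ({j | j ≠ 0} : Set (Fin 2)) = {j | j ∈ ([1] : List (Fin 2))} := by
      ext j; revert j; decide
    have hJ0 : ({j | j ≠ 1} : Set (Fin 2)) = {j | j ∈ ([0] : List (Fin 2))} := by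
      ext j; revert j; decide
    have hmax : ∀ k : Fin 2, p ∣ (PJ CoxeterMatrix.G₂.toCoxeterSystem isCartan (T K q) (X φ q) {j | j ≠ k}).index := by
      intro k
      fin_cases k
      · show p ∣ (PJ CoxeterMatrix.G₂.toCoxeterSystem isCartan (T K q) (X φ q) {j | j ≠ 0}).index
        rw [hJ1, e1]
        rcases h3 with h3 | h3
        · exact Dvd.dvd.mul_right h3 _
        · exact Dvd.dvd.mul_left h3 _
      · show p ∣ (PJ CoxeterMatrix.G₂.toCoxeterSystem isCartan (T K q) (X φ q) {j | j ≠ 1}).index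
        rw [hJ0, e2]
        rcases h3 with h3 | h3
        · refine Dvd.dvd.mul_right (h3.trans ?_) _
          have h8 : q ^ 3 + 1 = (q + 1) * (q ^ 2 - q + 1) := by
            have h9 : q ≤ q ^ 2 := by nlinarith
            zify [h9]
            ring
          rw [h8]
          exact Dvd.intro _ rfl
        · exact Dvd.dvd.mul_left h3 _
    exact H116.CY.rowA_of_index hR hGG hpr hmax

/-- **the row `td4`** -/
theorem row_td4 {p : ℕ} [Fact p.Prime] (hp2 : p ≠ 2) :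
    RowForA p (fun X _ => ∃ (K : Type) (_ : Field K) (_ : Fintype K) (q : ℕ), (p : K) ≠ 0 ∧ IsPrimePow q ∧
      Fintype.card K = q ^ 3 ∧ Nonempty (X ≃* Lie.twistedD4 K q)) := by
  intro X _ _ _ _ hd h
  obtain ⟨K, _, _, q, h1, h2, h3, ⟨e⟩⟩ := h
  have : Finite ↥(twistedD4 K q) := Finite.of_equiv X e.toEquiv
  have : Fintype ↥(twistedD4 K q) := Fintype.ofFinite _
  rw [Nat.card_congr e.toEquiv] at hd
  exact H776.CY.RowA.congr e (rowA h2 h3 hp2 h1 hd)

end Cfsg.Agent.H932.CY.Td4
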